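import Cfsg.Agent.Lib.GSz.Reduce
import Cfsg.Agent.Lib.GSz.U3
import Cfsg.Agent.Lib.UT.Homo

/-!
Glauberman's characterization of the Suzuki groups.
-/

set_option autoImplicit false

namespace Cfsg.Lib.GSz

open Subgroup Cfsg.Lib.FT Cfsg.Lib.Big

variable {G : Type*} [Group G] [Finite G] {P : Subgroup G}

/-- the excluded configuration -/
def Excl (P : Subgroup G) : Prop :=
  (∀ x ∈ P, x ^ 2 = 1) ∧ ∀ x ∈ P, ∀ y ∈ P, x ≠ 1 → y ≠ 1 → ∃ g : G, g * x * g⁻¹ = y

namespace GH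

variable (h : GH 2 P)
include h

theorem excl_of_rank_two [IsSimpleGroup G] (hG : ¬ IsMulCommutative G) (hr : PRankLE 2 2 G) :
    Excl P := by
  obtain ⟨S, rfl⟩ := h.syl.exists_sylow_top
  have hZ : ¬ IsCyclic (center (S : Subgroup G)) := by
    intro hc
    obtain ⟨⟨z, hz⟩, hz1⟩ := ne_bot_iff_exists_ne_one.1
      (zz_ne_bot h.syl.isPGroup (normalizer_sylow_ne_top hG h.syl).1)
    have hz1' : z ≠ 1 := fun e => hz1 (Subtype.ext e)
    have hu : ∀ y ∈ zz 2 (S : Subgroup G), y ≠ 1 → y = z := by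
      intro y hy hy1
      let a : center (S : Subgroup G) := ⟨⟨y, hy.1⟩, mem_center_iff.2 fun g =>
        Subtype.ext (mem_centralizer_iff.1 hy.2.1 g g.2)⟩
      let b : center (S : Subgroup G) := ⟨⟨z, hz.1⟩, mem_center_iff.2 fun g =>
        Subtype.ext (mem_centralizer_iff.1 hz.2.1 g g.2)⟩
      have ha : orderOf a = 2 := by
        rw [← orderOf_coe, ← orderOf_coe]; exact orderOf_of_mem_zz hy hy1
      have hb : orderOf b = 2 := by
        rw [← orderOf_coe, ← orderOf_coe]; exact orderOf_of_mem_zz hz hz1'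
      classical
      haveI := Fintype.ofFinite (center (S : Subgroup G))
      have h1 := IsCyclic.card_orderOf_eq_totient (α := center (S : Subgroup G)) (d := 2)
        (ha.symm.dvd.trans orderOf_dvd_card)
      rw [Nat.totient_two] at h1
      have := Finset.card_le_one.1 h1.le a (by simpa using ha) b (by simpa using hb)
      exact congrArg (fun x => ((x : center (S : Subgroup G)) : (S : Subgroup G)).1) this
    have h1 := zstar_of_sylow S hz.2.2 hz.1 fun g hg => hu _ (h.sc hz hg) (by simpa using hz1')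
    have h2 : z ∈ center G := mem_center_iff.2 fun g => by
      have := h1 g
      rw [show pPrimeCore 2 G = ⊥ from oddCore_eq_bot_of_simple hG, mem_bot, mul_inv_eq_one] at this
      nth_rewrite 2 [← this]; group
    rcases (inferInstance : (center G).Normal).eq_bot_or_eq_top with e | e
    · rw [e, mem_bot] at h2; exact hz1' h2
    · exact hG ⟨⟨fun a b => (mem_center_iff.1 (e ▸ mem_top b) a)⟩⟩
  rcases rank_two_central hG S hZ hr with h4 | hU
  · obtain ⟨m, -, ⟨e⟩⟩ := isDih_of_card_four hG S h4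
    have hc := (GW.dih2_of_dihedral S e).oneClass (index_ne_two_of_simple hG)
    have hx : Monoid.exponent (S : Subgroup G) = 2 :=
      (not_isCyclic_iff_exponent_eq_prime Nat.prime_two (by rw [h4]; rfl)).1
        fun c => hZ inferInstance
    have hsq : ∀ x ∈ (S : Subgroup G), x ^ 2 = 1 := fun x hx' =>
      congrArg Subtype.val (hx ▸ Monoid.pow_exponent_eq_one (⟨x, hx'⟩ : (S : Subgroup G)))
    exact ⟨hsq, fun x hx y hy hx1 hy1 => hc.exists_conj (orderOf_eq_prime (hsq x hx) hx1)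
      (orderOf_eq_prime (hsq y hy) hy1)⟩
  · exact absurd hU (not_isoPSU3 (n := 2) (fun t h1 h2 => h.npc' (k := 1) h2 h1) le_rfl)

theorem ti (hC : ∀ t : G, orderOf t = 2 → IsPGroup 2 C1[t]) {t g : G} (ht : t ∈ P) (h1 : t ≠ 1)
    (hg : g * t * g⁻¹ ∈ P) : g ∈ N[P] := by
  obtain ⟨k, hk⟩ := h.syl.isPGroup ⟨t, ht⟩
  obtain ⟨s, hs, ho⟩ := sm_exists_mem_orderOf_eq Nat.prime_two (zpowers t)
    (dvd_card_of_isPGroup_of_ne_bot (h.syl.isPGroup.to_le (zpowers_le.2 ht))
      (fun e => h1 (zpowers_eq_bot.1 e)))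
  have hsP : s ∈ P := zpowers_le.2 ht hs
  have hsg : g * s * g⁻¹ ∈ P := by
    obtain ⟨j, rfl⟩ := mem_zpowers_iff.1 hs
    rw [← conj_zpow]; exact P.zpow_mem hg j
  obtain ⟨c, -, e⟩ := h.syl.exists_conj_le (hC s ho) le_top
  have a1 : zz 2 P ≤ C1[s] := fun z hz =>
    mem_centralizer_singleton_iff.2 (mem_centralizer_iff.1 hz.2.1 s hsP).symm
  have a2 : g⁻¹ •ᶜ zz 2 P ≤ C1[s] := by
    rintro _ ⟨z, hz, rfl⟩
    rw [mem_centralizer_singleton_iff]
    have := mem_centralizer_iff.1 hz.2.1 _ hsg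
    simp only [MulEquiv.coe_toMonoidHom, MulAut.conj_apply]
    calc g⁻¹ * z * g⁻¹⁻¹ * s = g⁻¹ * (z * (g * s * g⁻¹)) * g := by group
      _ = _ := by rw [← this]; group
  have b1 := h.wc ((map_mono a1).trans e)
  have b2 := h.wc (g := c * g⁻¹) (by rw [map_conj_mul]; exact (map_mono a2).trans e)
  have b3 : g ∈ N[zz 2 P] := by simpa using mul_mem (inv_mem b2) b1
  obtain ⟨⟨z, hz⟩, hz1⟩ := ne_bot_iff_exists_ne_one.1 (zz_ne_bot h.syl.isPGroup
    (ne_bot_iff_exists_ne_one.2 ⟨⟨t, ht⟩, fun e => h1 (congrArg Subtype.val e)⟩))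
  have hCZ : C[zz 2 P] = P := h.syl.maximal _ ((hC z (orderOf_of_mem_zz hz
    fun e => hz1 (Subtype.ext e))).to_le (centralizer_le_singleton hz)) le_top
    (le_centralizer_iff.1 zz_le_cent)
  exact hCZ ▸ normalizer_le_normalizer_centralizer _ b3

theorem of_cit [IsSimpleGroup G] (hG : ¬ IsMulCommutative G)
    (hC : ∀ t : G, orderOf t = 2 → IsPGroup 2 C1[t]) :
    Excl P ∨ ((∀ u ∈ P, ∀ v ∈ P, orderOf u = 2 → orderOf v = 2 → ∃ n ∈ N[P], n⁻¹ * u * n = v) ∧
      ∃ m, 1 ≤ m ∧ IsoSz G m) := by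
  obtain ⟨h1, h2⟩ := normalizer_sylow_ne_top hG h.syl
  have hSE := stronglyEmbedded_of_ti (fun A B hA hB hne => by
    obtain ⟨a, -, rfl⟩ := h.syl.exists_conj hA
    obtain ⟨b, -, rfl⟩ := h.syl.exists_conj hB
    rw [eq_bot_iff]
    intro t ht
    by_contra ht1
    have := h.ti hC (mem_map_conj.1 ht.1) (g := b⁻¹ * a)
      (fun e => ht1 (by simpa [mul_assoc] using (congrArg (fun x => a * x * a⁻¹) e)))
      (by simpa [mul_assoc] using mem_map_conj.1 ht.2)
    refine hne ?_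
    rw [show a = b * (b⁻¹ * a) by group, map_conj_mul, map_conj_eq_of_mem_normalizer this])
    h.syl h1 h2
  obtain ⟨S, rfl⟩ := h.syl.exists_sylow_top
  obtain ⟨n, hn, hc, ⟨k, hk, htr⟩, hcase⟩ := bender_suzuki' hG hSE S
  have htr' : ∀ u ∈ (S : Subgroup G), ∀ v ∈ (S : Subgroup G), orderOf u = 2 → orderOf v = 2 →
      ∃ n ∈ N[(S : Subgroup G)], n⁻¹ * u * n = v := fun u hu v hv ou ov => by
    obtain ⟨l, hl, e⟩ := htr u hu v hv ou ov
    exact ⟨l, zpowers_le.2 hk hl, e⟩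
  rcases hcase with ⟨hS, -⟩ | ⟨-, -, m, hm, hI⟩ | ⟨-, -, hU⟩
  · left
    have e : {x | x ∈ (S : Subgroup G) ∧ orderOf x = 2} = ((S : Subgroup G) : Set G) \ {1} := by
      refine Set.eq_of_subset_of_ncard_le (fun x hx => ⟨hx.1, fun e => ?_⟩) ?_
      · have := hx.2
        rw [show x = 1 from e, orderOf_one] at this
        omega
      · rw [hc, Set.ncard_sdiff_singleton_of_mem (one_mem _), ← hS, ← Nat.card_coe_set_eq]
        rfl
    have ho : ∀ x ∈ (S : Subgroup G), x ≠ 1 → orderOf x = 2 := fun x hx h1 =>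
      (e.ge ⟨hx, h1⟩ : x ∈ {x | x ∈ (S : Subgroup G) ∧ orderOf x = 2}).2
    refine ⟨fun x hx => ?_, fun x hx y hy hx1 hy1 => ?_⟩
    · by_cases e : x = 1
      · simp [e]
      · rw [← ho x hx e, pow_orderOf_eq_one]
    · obtain ⟨l, -, e⟩ := htr' x hx y hy (ho x hx hx1) (ho y hy hy1)
      exact ⟨l⁻¹, by simpa using e⟩
  · exact Or.inr ⟨htr', m, by omega, hI⟩
  · exact absurd hU (not_isoPSU3 (fun t h1 h2 => h.npc' (k := 1) h2 h1) hn)

theorem two (hO : pPrimeCore 2 G = ⊥) (hn : ¬ P.Normal) (hd : ¬ Excl P) : Lie.IsoSuzuki G := by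
  obtain ⟨L, hLn, hLs, hLc, hPL⟩ := h.exists_simple hO hn
  have hL := h.subgroup hPL
  have hd' : ¬ Excl (P.subgroupOf L) := fun ⟨a, b⟩ => hd
    ⟨fun x hx => congrArg Subtype.val (a ⟨x, hPL hx⟩ hx), fun x hx y hy hx1 hy1 => by
      obtain ⟨g, hg⟩ := b ⟨x, hPL hx⟩ hx ⟨y, hPL hy⟩ hy (fun e => hx1 (congrArg Subtype.val e))
        (fun e => hy1 (congrArg Subtype.val e))
      exact ⟨g, congrArg Subtype.val hg⟩⟩
  by_cases hr : PRankLE 2 2 G
  · exact absurd (hL.excl_of_rank_two hLc (pRankLE_subgroup hr L)) hd'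
  have hidx : ∀ N : Subgroup G, N.index ≠ 2 := by
    intro N hN
    have h1 : L ≤ N := by
      have a := index_ne_two_of_simple hLc (N.subgroupOf L)
      haveI := normal_of_index_eq_two hN
      have b : (N.subgroupOf L).index ∣ 2 := hN ▸ relIndex_dvd_index_of_normal N L
      exact subgroupOf_eq_top.1
        (index_eq_one.1 (((Nat.dvd_prime Nat.prime_two).1 b).resolve_right a))
    refine h.syl.not_dvd_relIndex ?_
    rw [relIndex_top_right]
    exact hN ▸ index_dvd_of_le (hPL.trans h1)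
  have hnpc : ∀ t : G, orderOf t = 2 → HasNormalPComplement 2 C1[t] := fun t ht =>
    h.npc' (k := 1) (by rw [pow_one, ← ht, pow_orderOf_eq_one])
      fun e => by rw [e, orderOf_one] at ht; omega
  have hC : ∀ t : G, orderOf t = 2 → IsPGroup 2 C1[t] := by
    intro t ht
    have hb := core_eq_bot_of_constrained hO hidx hr
      (fun t ht => isPConstrained_of_isSolvable (UT.isSolvable_of_npc (hnpc t ht))) ht
    obtain ⟨S, hS⟩ := exists_isSylowIn 2 C1[t]
    have := (isComplIn_of_hasNormalPComplement (hnpc t ht) hS).sup_eq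
    rw [piCoreOf_compl_singleton, show (pPrimeCore 2 C1[t]).map C1[t].subtype = ⊥ from hb,
      bot_sup_eq] at this
    exact this ▸ hS.isPGroup
  obtain ⟨htr, m, hm, F, _, _, hF, ⟨e⟩⟩ := (hL.of_cit hLc fun t ht =>
    (hC t (by rwa [orderOf_coe])).of_injective
      ((L.subtype.comp C1[t].subtype).codRestrict _ fun c => mem_centralizer_singleton_iff.2
        (congrArg Subtype.val (mem_centralizer_singleton_iff.1 c.2)))
      fun a b e => Subtype.ext (Subtype.ext (Subtype.mk.inj e))).resolve_left hd'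
  have htop : L = ⊤ := by
    obtain ⟨⟨z, hz⟩, hz1⟩ := ne_bot_iff_exists_ne_one.1 (zz_ne_bot h.syl.isPGroup
      fun e => hn (e ▸ inferInstance))
    have oz := orderOf_of_mem_zz hz fun e => hz1 (Subtype.ext e)
    have hCz : C1[z] = P := h.syl.maximal _ (hC z oz) le_top fun y hy =>
      mem_centralizer_singleton_iff.2 (mem_centralizer_iff.1 hz.2.1 y hy)
    rw [eq_top_iff]
    intro g _
    obtain ⟨k, hk, hkg⟩ := (h.syl.mono hPL le_top).exists_mul_mem_normalizer (g := g)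
      (le_normalizer_of_normal (mem_top g))
    have m1 := (mem_normalizer_iff''.1 hkg z).1 hz.1
    obtain ⟨l, -, hl⟩ := htr ⟨z, hPL hz.1⟩ hz.1 ⟨_, hPL m1⟩ m1 (by rwa [← orderOf_coe]) (by
      rw [← orderOf_coe, ← oz]
      exact (MulAut.conj (k⁻¹ * g)).symm.orderOf_eq z)
    have hl' : (l : G)⁻¹ * z * l = (k⁻¹ * g)⁻¹ * z * (k⁻¹ * g) := congrArg Subtype.val hl
    have : k⁻¹ * g * (l : G)⁻¹ ∈ L := hPL (hCz ▸ mem_centralizer_singleton_iff.2 (by
      calc k⁻¹ * g * (l : G)⁻¹ * z = k⁻¹ * g * ((l : G)⁻¹ * z * l) * (l : G)⁻¹ := by group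
        _ = _ := by rw [hl']; group))
    simpa [mul_assoc] using L.mul_mem (L.mul_mem hk this) l.2
  subst htop
  exact ⟨F, inferInstance, inferInstance, m, hm, hF, ⟨topEquiv.symm.trans e⟩⟩

end GH

theorem glauberman_suzuki {p : ℕ} [hp : Fact p.Prime] (h : GH p P) (hO : pPrimeCore p G = ⊥)
    (hn : ¬ P.Normal) (hd : ¬ (p = 2 ∧ Excl P)) : p = 2 ∧ Lie.IsoSuzuki G := by
  by_cases h2 : p = 2
  · subst h2
    exact ⟨rfl, h.two hO hn fun e => hd ⟨rfl, e⟩⟩
  · obtain ⟨L, -, hLs, hLc, hPL⟩ := h.exists_simple hO hn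
    refine ((h.subgroup hPL).false_of_odd hLc h2 fun e => hn ?_).elim
    rw [subgroupOf_eq_bot, disjoint_iff, inf_eq_left.2 hPL] at e
    exact e ▸ inferInstance

end Cfsg.Lib.GSz
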