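import Cfsg.Agent.Lib.GSz.Setup
import Cfsg.Agent.Lib.InvChar.SylTools
import Cfsg.Agent.Lib.Core.Glau
import Cfsg.Agent.Lib.Core.FStar
import Cfsg.Agent.Lib.Quad.Stab

/-!
Glauberman's characterization of the Suzuki groups: reduction to a simple normal subgroup.
-/

set_option autoImplicit false

namespace Cfsg.Lib.GSz

open Subgroup Cfsg.Lib.FT

variable {G : Type*} [Group G] [Finite G] {p : ℕ} [hp : Fact p.Prime] {P : Subgroup G}

theorem fusion_of_npc {C S : Subgroup G} (hC : HasNormalPComplement p C) (hS : IsSylowIn p S C)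
    {x c : G} (hx : x ∈ S) (hc : c ∈ C) (h : c * x * c⁻¹ ∈ S) :
    ∃ a ∈ S, a * x * a⁻¹ = c * x * c⁻¹ := by
  have hI := isComplIn_of_hasNormalPComplement hC hS
  obtain ⟨a, ha, o, ho, rfl⟩ := hI.exists_mul' hc
  refine ⟨a, ha, ?_⟩
  have h1 : o * x * o⁻¹ * x⁻¹ = 1 := by
    refine hI.eq_one ?_ (S.mul_mem ?_ (S.inv_mem hx))
    · have := (mem_normalizer_iff.1 (le_normalizer_piCoreOf {p}ᶜ C (hS.le hx)) _).1 (inv_mem ho)
      simpa [mul_assoc] using mul_mem ho this
    · simpa [mul_assoc] using S.mul_mem (S.mul_mem (S.inv_mem ha) h) ha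
  rw [mul_inv_eq_one] at h1
  nth_rewrite 1 [← h1]; group

namespace GH

variable (h : GH p P)
include h

omit hp in
theorem wc {g : G} (hg : g •ᶜ zz p P ≤ P) : g ∈ N[zz p P] :=
  mem_normalizer_fintype fun z hz => h.sc hz (hg (mem_map_of_mem _ hz))

theorem fus_sub {H : Subgroup G} (hH : P ≤ H) {x g : G} (hx : x ∈ P) (hg : g ∈ H)
    (hy : g * x * g⁻¹ ∈ P) : ∃ n ∈ H ⊓ N[P], n * x * n⁻¹ = g * x * g⁻¹ := by
  by_cases hx1 : x = 1
  · exact ⟨1, one_mem _, by simp [hx1]⟩
  have hP : P ≠ ⊥ := ne_bot_iff_exists_ne_one.2 ⟨⟨x, hx⟩, fun e => hx1 (congrArg Subtype.val e)⟩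
  set Z := zz p P with hZ
  obtain ⟨c, hc, hcg⟩ := IC.wc_conj (Y := H ⊓ C1[g * x * g⁻¹]) (g := g) h.syl
    (h.syl.isPGroup.to_le zz_le) (fun g => h.wc)
    (le_inf (zz_le.trans hH) fun z hz =>
      mem_centralizer_singleton_iff.2 (mem_centralizer_iff.1 hz.2.1 _ hy).symm)
    (le_inf (map_conj_le_of_mem_normalizer (zz_le.trans hH) (le_normalizer hg)) (by
      rintro _ ⟨z, hz, rfl⟩
      rw [mem_centralizer_singleton_iff]
      have := mem_centralizer_iff.1 hz.2.1 x hx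
      simp only [MulEquiv.coe_toMonoidHom, MulAut.conj_apply]
      calc g * z * g⁻¹ * (g * x * g⁻¹) = g * (z * x) * g⁻¹ := by group
        _ = _ := by rw [← this]; group))
  have hS : IsSylowIn p P (H ⊓ C[Z]) := h.syl.mono (le_inf hH (le_centralizer_iff.1 zz_le_cent)) le_top
  have hcg' : c * g ∈ H := H.mul_mem hc.1 hg
  obtain ⟨k, hk, hn⟩ := hS.exists_mul_mem_normalizer (g := c * g)
    (inf_normalizer_le_normalizer_inf ⟨le_normalizer hcg', normalizer_le_normalizer_centralizer _ hcg⟩)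
  obtain ⟨⟨z, hz⟩, hz1⟩ := ne_bot_iff_exists_ne_one.1 (zz_ne_bot h.syl.isPGroup hP)
  have hC : HasNormalPComplement p ↥(H ⊓ C[Z]) := (h.npc z hz.1 fun e => hz1 (Subtype.ext e)).to_le
    (inf_le_right.trans (centralizer_le_singleton hz))
  have e1 : k * (k⁻¹ * (c * g) * x * (k⁻¹ * (c * g))⁻¹) * k⁻¹ = g * x * g⁻¹ := by
    have := mem_centralizer_singleton_iff.1 hc.2
    calc _ = c * (g * x * g⁻¹) * c⁻¹ := by group
      _ = _ := by rw [this]; group
  obtain ⟨a, ha, e2⟩ := fusion_of_npc hC hS ((mem_normalizer_iff.1 hn x).1 hx) hk (e1 ▸ hy)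
  refine ⟨a * (k⁻¹ * (c * g)), ⟨H.mul_mem (hH ha) (H.mul_mem (H.inv_mem hk.1) hcg'),
    mul_mem (le_normalizer ha) hn⟩, ?_⟩
  rw [← e1, ← e2]; group

theorem subgroup {H : Subgroup G} (hH : P ≤ H) : GH p (P.subgroupOf H) := by
  refine ⟨?_, fun x hx g hg => ?_, fun x hx h1 => ?_, fun x y hx hy => ?_⟩
  · rw [← subgroupOf_self H, isSylowIn_subgroupOf_iff hH le_rfl]
    exact h.syl.mono hH le_top
  · obtain ⟨n, hn, e⟩ := h.fus_sub hH hx g.2 hg
    refine ⟨⟨n, hn.1⟩, mem_normalizer_iff.2 fun y => mem_normalizer_iff.1 hn.2 y, Subtype.ext e⟩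
  · refine (h.npc x hx fun e => h1 (Subtype.ext e)).of_injective
      ((H.subtype.comp C1[x].subtype).codRestrict _ fun c => mem_centralizer_singleton_iff.2
        (congrArg Subtype.val (mem_centralizer_singleton_iff.1 c.2))) fun a b e => ?_
    exact Subtype.ext (Subtype.ext (Subtype.mk.inj e))
  · refine Quad.isPSolvable_of_injective ((H.subtype.comp (closure {x, y}).subtype).codRestrict
      (closure {(x : G), (y : G)}) fun c => ?_) (fun a b e => ?_)
      (h.sol x y (by rwa [orderOf_coe]) (by rwa [orderOf_coe]))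
    · have : (closure {x, y}).map H.subtype = closure {(x : G), (y : G)} := by
        rw [MonoidHom.map_closure, Set.image_pair]; rfl
      exact this ▸ mem_map_of_mem _ c.2
    · exact Subtype.ext (Subtype.ext (Subtype.mk.inj e))

theorem npc' {t : G} {k : ℕ} (ht : t ^ p ^ k = 1) (h1 : t ≠ 1) : HasNormalPComplement p C1[t] := by
  obtain ⟨g, -, e⟩ := h.syl.exists_conj_le (isPGroup_zpowers_of_pow ht) le_top
  have := h.npc _ (e (mem_map_of_mem _ (mem_zpowers t))) (by simpa using h1)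
  rw [← hasNormalPComplement_conj_iff (g := g)]
  refine this.to_le ?_
  rintro _ ⟨c, hc, rfl⟩
  rw [mem_centralizer_singleton_iff, ← map_mul, ← map_mul, mem_centralizer_singleton_iff.1 hc]

theorem pCore_eq_bot (hO : pPrimeCore p G = ⊥) (hn : ¬ P.Normal) : pCore p G = ⊥ := by
  by_contra hne
  have hQ : pCore p G ≤ P :=
    h.syl.le_of_normalizes isPGroup_pCore le_top le_normalizer_of_normal
  set Z := zz p P ⊓ pCore p G with hZ
  haveI : Z.Normal := ⟨fun z hz g =>
    have := Normal.conj_mem inferInstance z hz.2 g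
    ⟨h.sc hz.1 (hQ this), this⟩⟩
  obtain ⟨z, hz, hz1⟩ : ∃ z ∈ Z, z ≠ 1 := by
    have := inf_centralizer_ne_bot_of_isNilpotent h.syl.isPGroup.isNilpotent hQ
      le_normalizer_of_normal hne
    obtain ⟨z, hz, ho⟩ := sm_exists_mem_orderOf_eq hp.out _
      (dvd_card_of_isPGroup_of_ne_bot (isPGroup_pCore.to_le inf_le_left) this)
    exact ⟨z, ⟨⟨hQ hz.1, hz.2, by rw [← ho, pow_orderOf_eq_one]⟩, hz.1⟩,
      fun e => hp.out.one_lt.ne' (by rw [← ho, e, orderOf_one])⟩
  have hC : HasNormalPComplement p C[Z] :=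
    (h.npc z hz.1.1 hz1).to_le (centralizer_le_singleton hz)
  have hPC : P ≤ C[Z] := le_centralizer_iff.1 (inf_le_left.trans zz_le_cent)
  have hI := isComplIn_of_hasNormalPComplement hC (h.syl.mono hPC le_top)
  have hb : piCoreOf {p}ᶜ C[Z] = ⊥ := by
    rw [eq_bot_iff, ← hO, ← piCore_compl_singleton]
    exact le_piCore inferInstance (isPiSubgroup_piCoreOf _ _)
  have := hI.sup_eq
  rw [hb, bot_sup_eq] at this
  exact hn (this ▸ inferInstance)

theorem exists_simple (hO : pPrimeCore p G = ⊥) (hn : ¬ P.Normal) :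
    ∃ L : Subgroup G, L.Normal ∧ IsSimpleGroup L ∧ ¬ IsMulCommutative L ∧ P ≤ L := by
  have hF : fittingSubgroup G = ⊥ := by
    have := fitting_le_pCore_sup_pPrimeCore (G := G) p
    rwa [h.pCore_eq_bot hO hn, hO, bot_sup_eq, le_bot_iff] at this
  have hP : P ≠ ⊥ := fun e => hn (e ▸ inferInstance)
  obtain ⟨L, hL, -⟩ := exists_isComponent_le_of_inf_fitting_eq_bot (G := G) IsSubnormal.top
    (fun e => hP (eq_bot_iff.2 (e ▸ le_top))) (by rw [hF, inf_bot_eq])
  have hd : ∀ K : Subgroup G, IsComponent K → p ∣ Nat.card K := fun K hK => by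
    by_contra c
    exact hK.ne_bot (eq_bot_iff.2 (hO ▸ le_pPrimeCore_of_isSubnormal hK.isSubnormal
      ((Nat.Prime.coprime_iff_not_dvd hp.out).2 c).symm))
  have hnpc : ∀ H, L ≤ H → ¬ HasNormalPComplement p H := fun H hH c =>
    (Nat.Prime.coprime_iff_not_dvd hp.out).1 (c.coprime_of_perfect hH hL.commutator_self).symm
      (hd L hL)
  haveI hLn : L.Normal := by
    refine normalizer_eq_top_iff.1 (eq_top_iff.2 fun g _ => mem_normalizer_of_map_conj_eq ?_)
    refine ((hL.map_conj g).eq_or_commutator_eq_bot hL).resolve_right fun c => ?_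
    obtain ⟨t, ht, ho⟩ := sm_exists_mem_orderOf_eq hp.out _ (hd _ (hL.map_conj g))
    refine hnpc _ (fun x hx => ?_) (h.npc' (t := t) (k := 1) (by rw [pow_one, ← ho, pow_orderOf_eq_one])
      fun e => hp.out.one_lt.ne' (by rw [← ho, e, orderOf_one]))
    exact mem_centralizer_singleton_iff.2
      (mem_centralizer_iff.1 (commutator_eq_bot_iff_le_centralizer.1 c ht) x hx)
  refine ⟨L, hLn, hL.isQuasisimple.isSimpleGroup_of_center_eq_bot ?_,
    hL.isQuasisimple.not_isMulCommutative, ?_⟩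
  · rw [eq_bot_iff]
    intro z hz
    have : (z : G) ∈ fittingSubgroup G := inf_centralizer_le_fitting L
      ⟨z.2, mem_centralizer_iff.2 fun y hy => congrArg Subtype.val (mem_center_iff.1 hz ⟨y, hy⟩)⟩
    rw [hF, mem_bot] at this
    exact mem_bot.2 (Subtype.ext this)
  by_contra hPL
  refine hnpc (L ⊔ P) le_sup_left ((h.subgroup le_sup_right).npc_of_le fun n hn => ?_)
  have hn' : (n : G) ∈ N[P] := mem_normalizer_fintype fun x hx =>
    (mem_normalizer_iff.1 hn ⟨x, mem_sup_right hx⟩).1 hx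
  obtain ⟨a, w, e1, -, ⟨k, hk⟩, hw, ha, hw'⟩ := exists_pPart (p := p) n
  have hz : zpowers n ≤ N[P.subgroupOf (L ⊔ P)] := zpowers_le.2 hn
  refine ⟨a, (h.subgroup le_sup_right).syl.le_of_le_normalizer (isPGroup_zpowers_of_pow hk) le_top
    (zpowers_le.2 (hz ha)) (mem_zpowers a), w, ?_, e1⟩
  have hwN : (w : G) ∈ N[P] := mem_normalizer_fintype fun x hx =>
    (mem_normalizer_iff.1 (hz hw') ⟨x, mem_sup_right hx⟩).1 hx
  have hwo : ¬ p ∣ orderOf (w : G) := by rwa [orderOf_coe]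
  have hwL : (w : G) ∈ L := by
    rw [← QuotientGroup.eq_one_iff]
    obtain ⟨l, hl, s, hs, e⟩ := mem_sup_of_normal_left.1 w.2
    obtain ⟨j, hj⟩ := h.syl.isPGroup ⟨s, hs⟩
    have e2 : (QuotientGroup.mk (w : G) : G ⧸ L) = QuotientGroup.mk s := by
      rw [← e, QuotientGroup.mk_mul, (QuotientGroup.eq_one_iff l).2 hl, one_mul]
    rw [← orderOf_eq_one_iff]
    refine Nat.eq_one_of_dvd_coprimes
      (Nat.Coprime.pow_right j ((Nat.Prime.coprime_iff_not_dvd hp.out).2 hwo).symm)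
      (orderOf_map_dvd (QuotientGroup.mk' L) _) (orderOf_dvd_of_pow_eq_one ?_)
    rw [e2, ← QuotientGroup.mk_pow, show s ^ p ^ j = 1 from congrArg Subtype.val hj,
      QuotientGroup.mk_one]
  have hact : CoprimeAct (zpowers (w : G)) P :=
    (isPiSubgroup_compl_singleton_iff.2 (by rwa [Nat.card_zpowers])).coprimeAct'
      (isPiSubgroup_singleton_iff.2 h.syl.isPGroup) (zpowers_le.2 hwN) (Or.inl inferInstance)
  have hle := hact.le_sup_centralizer_of_commutator_le (N := L)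
    ((commutator_mono le_rfl (zpowers_le.2 hwL)).trans (commutator_le_right _ _))
  have hne : P ⊓ C[zpowers (w : G)] ≠ ⊥ := fun e => hPL (by rwa [e, sup_bot_eq] at hle)
  obtain ⟨⟨u, hu⟩, hu1⟩ := ne_bot_iff_exists_ne_one.1 hne
  have := h.frob hwN hwo hu.1 (fun e => hu1 (Subtype.ext e))
    (mem_centralizer_iff.1 hu.2 w (mem_zpowers _))
  exact mem_centralizer_iff.2 fun y hy => Subtype.ext (mem_centralizer_iff.1 this y hy)

end GH

end Cfsg.Lib.GSz
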